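import Mathlib.RingTheory.Smooth.Kaehler
import Mathlib.RingTheory.Smooth.Field
import Mathlib.RingTheory.Smooth.Locus
import Mathlib.RingTheory.Kaehler.Polynomial
import Mathlib.Algebra.MvPolynomial.PDeriv
import Mathlib.RingTheory.Ideal.Quotient.Noetherian
import Mathlib.RingTheory.KrullDimension.Zero
import Mathlib.RingTheory.Ideal.MinimalPrime.Noetherian
import Mathlib.FieldTheory.Perfect
import Groth.Agent.L23.SourceRegular

/-!
Polynomial certificates for an ideal to be the radical of a given one.
-/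

set_option autoImplicit false
universe u v

open scoped TensorProduct

namespace L02.CAlg.RadBound

variable {N : ℕ} {β : Type} [Fintype β]

/-- `g` generates an ideal between `(S)` and its radical, smooth away from `h`. -/
def Cert {R : Type u} [CommRing R] (S : β → MvPolynomial (Fin N) R) {r : ℕ} (g : Fin r → MvPolynomial (Fin N) R)
    (h : MvPolynomial (Fin N) R) (e : ℕ) (z : β → Fin r → MvPolynomial (Fin N) R)
    (w : Fin r → β → MvPolynomial (Fin N) R) (c : Fin N → Fin r → MvPolynomial (Fin N) R)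
    (d : Fin r → Fin r → Fin r → MvPolynomial (Fin N) R) : Prop :=
  (∀ j, S j = ∑ u, z j u * g u) ∧ (∀ t, g t ^ e = ∑ j, w t j * S j) ∧
    ∀ t, h ^ e * g t - ∑ i, MvPolynomial.pderiv i (g t) * (∑ u, c i u * g u) =
      ∑ u, ∑ v, d t u v * (g u * g v)

section Map

variable {R : Type u} [CommRing R] {R' : Type v} [CommRing R'] (φ : R →+* R')
  {S : β → MvPolynomial (Fin N) R} {r : ℕ} {g : Fin r → MvPolynomial (Fin N) R} {h : MvPolynomial (Fin N) R}
  {e : ℕ} {z : β → Fin r → MvPolynomial (Fin N) R} {w : Fin r → β → MvPolynomial (Fin N) R}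
  {c : Fin N → Fin r → MvPolynomial (Fin N) R} {d : Fin r → Fin r → Fin r → MvPolynomial (Fin N) R}

theorem Cert.map (H : Cert S g h e z w c d) :
    Cert (fun j => MvPolynomial.map φ (S j)) (fun t => MvPolynomial.map φ (g t)) (MvPolynomial.map φ h) e
      (fun j u => MvPolynomial.map φ (z j u)) (fun t j => MvPolynomial.map φ (w t j))
      (fun i u => MvPolynomial.map φ (c i u)) (fun t u v => MvPolynomial.map φ (d t u v)) := by
  refine ⟨fun j => ?_, fun t => ?_, fun t => ?_⟩
  · simp only [H.1 j, map_sum, map_mul]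
  · simp only [← map_pow, H.2.1 t, map_sum, map_mul]
  · have := congrArg (MvPolynomial.map φ) (H.2.2 t)
    simp only [map_sub, map_sum, map_mul, map_pow] at this
    simp only [MvPolynomial.pderiv_map, ← this]

theorem Cert.of_map (hφ : Function.Injective φ)
    (H : Cert (fun j => MvPolynomial.map φ (S j)) (fun t => MvPolynomial.map φ (g t)) (MvPolynomial.map φ h) e
      (fun j u => MvPolynomial.map φ (z j u)) (fun t j => MvPolynomial.map φ (w t j))
      (fun i u => MvPolynomial.map φ (c i u)) (fun t u v => MvPolynomial.map φ (d t u v))) :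
    Cert S g h e z w c d := by
  have hi := MvPolynomial.map_injective (σ := Fin N) φ hφ
  refine ⟨fun j => hi ?_, fun t => hi ?_, fun t => hi ?_⟩
  · simpa only [map_sum, map_mul] using H.1 j
  · simpa only [map_sum, map_mul, map_pow] using H.2.1 t
  · simpa only [map_sub, map_sum, map_mul, map_pow, MvPolynomial.pderiv_map] using H.2.2 t

end Map

variable {k : Type u} [Field k]

theorem D_algebraMap_eq (Ph : Type u) [CommRing Ph] [Algebra k Ph] [Algebra (MvPolynomial (Fin N) k) Ph]
    [IsScalarTower k (MvPolynomial (Fin N) k) Ph] (p : MvPolynomial (Fin N) k) :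
    KaehlerDifferential.D k Ph (algebraMap (MvPolynomial (Fin N) k) Ph p) =
      ∑ i, algebraMap (MvPolynomial (Fin N) k) Ph (MvPolynomial.pderiv i p) •
        KaehlerDifferential.D k Ph (algebraMap (MvPolynomial (Fin N) k) Ph (MvPolynomial.X i)) := by
  classical
  induction p using MvPolynomial.induction_on with
  | C a =>
    rw [← MvPolynomial.algebraMap_eq, ← IsScalarTower.algebraMap_apply, Derivation.map_algebraMap]
    simp
  | add p q hp hq => simp only [map_add, hp, hq, add_smul, Finset.sum_add_distrib]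
  | mul_X p j hp =>
    simp only [map_mul, Derivation.leibniz, hp, MvPolynomial.pderiv_X, smul_eq_mul, map_add, add_smul,
      Finset.sum_add_distrib, Finset.smul_sum, smul_smul]
    congr 1
    rw [Finset.sum_eq_single j]
    · simp
    · intro i _ hi; simp [hi.symm]
    · simp

/-- The ideal of a certificate over a field is radical when `h` is regular modulo it. -/
theorem Cert.radical_eq {S : β → MvPolynomial (Fin N) k} {r : ℕ} {g : Fin r → MvPolynomial (Fin N) k}
    {h : MvPolynomial (Fin N) k} {e : ℕ} {z : β → Fin r → MvPolynomial (Fin N) k}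
    {w : Fin r → β → MvPolynomial (Fin N) k} {c : Fin N → Fin r → MvPolynomial (Fin N) k}
    {d : Fin r → Fin r → Fin r → MvPolynomial (Fin N) k} (H : Cert S g h e z w c d)
    (hreg : ∀ y, h * y ∈ Ideal.span (Set.range g) → y ∈ Ideal.span (Set.range g)) :
    (Ideal.span (Set.range S)).radical = Ideal.span (Set.range g) := by
  classical
  let P := MvPolynomial (Fin N) k
  let J := Ideal.span (Set.range g)
  have hle : Ideal.span (Set.range S) ≤ J := by
    rw [Ideal.span_le]
    rintro _ ⟨j, rfl⟩
    rw [H.1 j]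
    exact Ideal.sum_mem _ fun u _ => Ideal.mul_mem_left _ _ (Ideal.subset_span ⟨u, rfl⟩)
  have hge : J ≤ (Ideal.span (Set.range S)).radical := by
    rw [Ideal.span_le]
    rintro _ ⟨t, rfl⟩
    exact ⟨e, by rw [H.2.1 t]; exact Ideal.sum_mem _ fun j _ => Ideal.mul_mem_left _ _ (Ideal.subset_span ⟨j, rfl⟩)⟩
  refine le_antisymm ((Ideal.radical_mono hle).trans ?_) hge
  let Ph := Localization.Away h
  let Jh : Ideal Ph := J.map (algebraMap P Ph)
  let Ch := Ph ⧸ Jh
  have hu : IsUnit (algebraMap P Ph h) := IsLocalization.Away.algebraMap_isUnit h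
  have hs : Function.Surjective (algebraMap Ph Ch) := Ideal.Quotient.mk_surjective
  haveI : Algebra.FormallySmooth P Ph := Algebra.FormallySmooth.of_isLocalization (Submonoid.powers h)
  haveI : Algebra.FormallySmooth k Ph := Algebra.FormallySmooth.comp k P Ph
  let bΩ := Module.Basis.ofIsLocalizedModule Ph (Submonoid.powers h) (KaehlerDifferential.map k k P Ph)
    (KaehlerDifferential.mvPolynomialBasis k (Fin N))
  have hbΩ : ∀ i, bΩ i = KaehlerDifferential.D k Ph (algebraMap P Ph (MvPolynomial.X i)) := fun i => by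
    rw [Module.Basis.ofIsLocalizedModule_apply, KaehlerDifferential.mvPolynomialBasis_apply, KaehlerDifferential.map_D]
  let bC := Algebra.TensorProduct.basis Ch bΩ
  have hker : ∀ x, x ∈ Jh → x ∈ RingHom.ker (algebraMap Ph Ch) := fun x hx => Ideal.Quotient.eq_zero_iff_mem.mpr hx
  let gh : Fin r → RingHom.ker (algebraMap Ph Ch) := fun t =>
    ⟨algebraMap P Ph (g t), hker _ (Ideal.mem_map_of_mem _ (Ideal.subset_span ⟨t, rfl⟩))⟩
  let lam : Fin N → RingHom.ker (algebraMap Ph Ch) := fun i =>
    ⟨((hu.pow e).unit⁻¹ : Phˣ) * algebraMap P Ph (∑ u, c i u * g u), hker _ (Ideal.mul_mem_left _ _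
      (Ideal.mem_map_of_mem _ (Ideal.sum_mem _ fun u _ => Ideal.mul_mem_left _ _ (Ideal.subset_span ⟨u, rfl⟩))))⟩
  have hψ : ∀ i, (Jh : Submodule Ph Ph) ≤ LinearMap.ker
      (LinearMap.toSpanSingleton Ph _ ((RingHom.ker (algebraMap Ph Ch)).toCotangent (lam i))) := by
    intro i x hx
    rw [LinearMap.mem_ker, LinearMap.toSpanSingleton_apply, ← map_smul, Ideal.toCotangent_eq_zero,
      Submodule.coe_smul, smul_eq_mul, pow_two]
    exact Ideal.mul_mem_mul (hker _ hx) (lam i).2
  let l : Ch ⊗[Ph] Ω[Ph⁄k] →ₗ[Ph] (RingHom.ker (algebraMap Ph Ch)).Cotangent :=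
    ∑ i, (Submodule.liftQ Jh _ (hψ i)) ∘ₗ ((bC.coord i).restrictScalars Ph)
  have hl : l ∘ₗ KaehlerDifferential.kerCotangentToTensor k Ph Ch = LinearMap.id := by
    have hgen : ∀ t, l (KaehlerDifferential.kerCotangentToTensor k Ph Ch (Ideal.toCotangent _ (gh t))) =
        Ideal.toCotangent _ (gh t) := by
      intro t
      have hco : ∀ i, bC.coord i (KaehlerDifferential.kerCotangentToTensor k Ph Ch (Ideal.toCotangent _ (gh t))) =
          algebraMap Ph Ch (algebraMap P Ph (MvPolynomial.pderiv i (g t))) := by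
        intro i
        rw [KaehlerDifferential.kerCotangentToTensor_toCotangent, Module.Basis.coord_apply,
          Algebra.TensorProduct.basis_repr_tmul, D_algebraMap_eq]
        simp only [show ∀ i, KaehlerDifferential.D k Ph (algebraMap (MvPolynomial (Fin N) k) Ph (MvPolynomial.X i)) = bΩ i
          from fun i => (hbΩ i).symm, bΩ.repr_sum_self, one_smul, Finsupp.mapRange_apply]
        rfl
      simp only [l, LinearMap.sum_apply, LinearMap.comp_apply, LinearMap.coe_restrictScalars, hco]
      have hq : ∀ i, (Submodule.liftQ Jh _ (hψ i)) (algebraMap Ph Ch (algebraMap P Ph (MvPolynomial.pderiv i (g t)))) =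
          Ideal.toCotangent _ (algebraMap P Ph (MvPolynomial.pderiv i (g t)) • lam i) := fun i => by
        rw [map_smul]
        rfl
      simp only [hq, ← map_sum]
      refine (Ideal.toCotangent_eq _).mpr ?_
      simp only [Submodule.coe_sum, Submodule.coe_smul, smul_eq_mul, lam, gh]
      have hrel := congrArg (algebraMap P Ph) (H.2.2 t)
      rw [map_sub, map_mul, map_pow, map_sum] at hrel
      have hmem : algebraMap P Ph (∑ u, ∑ v, d t u v * (g u * g v)) ∈ RingHom.ker (algebraMap Ph Ch) ^ 2 := by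
        rw [pow_two, map_sum]
        refine Ideal.sum_mem _ fun u _ => ?_
        rw [map_sum]
        refine Ideal.sum_mem _ fun v _ => ?_
        rw [map_mul, map_mul]
        exact Ideal.mul_mem_left _ _ (Ideal.mul_mem_mul (gh u).2 (gh v).2)
      rw [← hrel] at hmem
      have heq : ∑ i, algebraMap P Ph (MvPolynomial.pderiv i (g t)) *
            (↑((hu.pow e).unit⁻¹) * algebraMap P Ph (∑ u, c i u * g u)) - algebraMap P Ph (g t) =
          -(↑((hu.pow e).unit⁻¹) * (algebraMap P Ph h ^ e * algebraMap P Ph (g t) -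
            ∑ i, algebraMap P Ph (MvPolynomial.pderiv i (g t) * ∑ u, c i u * g u))) := by
        rw [mul_sub, ← mul_assoc, IsUnit.val_inv_mul, one_mul, neg_sub, Finset.mul_sum]
        congr 1
        exact Finset.sum_congr rfl fun i _ => by rw [map_mul, mul_left_comm]
      rw [heq]
      exact Submodule.neg_mem _ (Ideal.mul_mem_left _ _ hmem)
    refine LinearMap.ext fun x => ?_
    obtain ⟨x, rfl⟩ := Ideal.toCotangent_surjective _ x
    have hx : (x : Ph) ∈ Ideal.span (Set.range fun t => algebraMap P Ph (g t)) := by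
      rw [Set.range_comp' (algebraMap P Ph) g, ← Ideal.map_span]
      exact Ideal.Quotient.eq_zero_iff_mem.mp x.2
    obtain ⟨a, ha⟩ := Ideal.mem_span_range_iff_exists_fun.mp hx
    have hxa : x = ∑ t, a t • gh t := Subtype.ext (by simp [gh, ← ha])
    rw [hxa]
    simp only [map_sum, map_smul, LinearMap.comp_apply, hgen, LinearMap.id_apply]
  haveI : Algebra.FormallySmooth k Ch := (Algebra.FormallySmooth.iff_split_injection hs).mpr ⟨l, hl⟩
  haveI : Algebra.FinitePresentation P Ph := IsLocalization.Away.finitePresentation h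
  haveI : Algebra.FiniteType k Ph := Algebra.FiniteType.trans (S := P) inferInstance inferInstance
  haveI : Algebra.FiniteType k Ch := Algebra.FiniteType.of_surjective (IsScalarTower.toAlgHom k Ph Ch) hs
  haveI : Algebra.Smooth k Ch := ⟨inferInstance, Algebra.FinitePresentation.of_finiteType.mp inferInstance⟩
  haveI : IsReduced Ch := isReduced_ofLocalizationMaximal Ch fun m _ =>
    Groth.L23.isReduced_localization_of_smooth k Ch m
  rintro y ⟨n, hn⟩
  have h0 : algebraMap P Ph y ∈ Jh := by
    refine Ideal.Quotient.eq_zero_iff_mem.mp (IsNilpotent.eq_zero ⟨n, ?_⟩)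
    rw [← map_pow, ← map_pow, Ideal.Quotient.eq_zero_iff_mem]
    exact Ideal.mem_map_of_mem _ hn
  obtain ⟨_, ⟨m, rfl⟩, hm⟩ := (IsLocalization.algebraMap_mem_map_algebraMap_iff (Submonoid.powers h) Ph _ _).mp h0
  clear hn h0
  induction m generalizing y with
  | zero => simpa using hm
  | succ m ih =>
    change h ^ (m + 1) * y ∈ _ at hm
    rw [pow_succ, mul_assoc] at hm
    exact hreg y (ih hm)

/-- Over a perfect field every ideal has a certificate. -/
theorem exists_cert [PerfectField k] (S : β → MvPolynomial (Fin N) k) :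
    ∃ (r : ℕ) (g : Fin r → MvPolynomial (Fin N) k) (h : MvPolynomial (Fin N) k) (e : ℕ)
      (z : β → Fin r → MvPolynomial (Fin N) k) (w : Fin r → β → MvPolynomial (Fin N) k)
      (c : Fin N → Fin r → MvPolynomial (Fin N) k) (d : Fin r → Fin r → Fin r → MvPolynomial (Fin N) k),
      Cert S g h e z w c d ∧ ∀ y, h * y ∈ Ideal.span (Set.range g) → y ∈ Ideal.span (Set.range g) := by
  classical
  let P := MvPolynomial (Fin N) k
  let J : Ideal P := (Ideal.span (Set.range S)).radical
  obtain ⟨r, g, hg⟩ := Submodule.fg_iff_exists_fin_generating_family.mp (IsNoetherian.noetherian J)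
  have hg : Ideal.span (Set.range g) = J := hg
  let C := P ⧸ J
  haveI : IsReduced C := (Ideal.isRadical_iff_quotient_reduced J).mp (Ideal.radical_isRadical _)
  haveI : Algebra.FiniteType k C := Algebra.FiniteType.of_surjective (Ideal.Quotient.mkₐ k J) Ideal.Quotient.mk_surjective
  haveI : Algebra.FinitePresentation k C := Algebra.FinitePresentation.of_finiteType.mp inferInstance
  have hmin : ∀ q ∈ minimalPrimes C, ∃ _ : q.IsPrime, Algebra.IsSmoothAt k q := by
    intro q hq
    haveI := hq.1.1
    refine ⟨inferInstance, ?_⟩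
    let B := Localization.AtPrime q
    haveI : IsReduced B := inferInstance
    haveI : Ring.KrullDimLE 0 B := Ring.KrullDimLE.mk₀ fun I hI => by
      haveI := hI
      have hm : (IsLocalRing.maximalIdeal B).comap (algebraMap C B) = q :=
        IsLocalization.AtPrime.comap_maximalIdeal B q
      have h1 : I.comap (algebraMap C B) ≤ q :=
        (Ideal.comap_mono (IsLocalRing.le_maximalIdeal hI.ne_top)).trans hm.le
      have e1 : I.comap (algebraMap C B) = (IsLocalRing.maximalIdeal B).comap (algebraMap C B) :=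
        (le_antisymm h1 (hq.2 ⟨inferInstance, bot_le⟩ h1)).trans hm.symm
      rw [(IsLocalization.map_comap q.primeCompl B I).symm.trans ((congrArg (Ideal.map (algebraMap C B)) e1).trans
        (IsLocalization.map_comap q.primeCompl B (IsLocalRing.maximalIdeal B)))]
      infer_instance
    letI : Field B := Ring.KrullDimLE.isField_of_isReduced.toField
    haveI : Algebra.EssFiniteType C B := .of_isLocalization _ q.primeCompl
    haveI : Algebra.EssFiniteType k B := .comp _ C _
    exact Algebra.FormallySmooth.of_perfectField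
  have hopen := Algebra.isOpen_smoothLocus (R := k) (A := C)
  obtain ⟨s, hs⟩ := (PrimeSpectrum.isClosed_iff_zeroLocus _).mp hopen.isClosed_compl
  have hns : ∀ q ∈ minimalPrimes C, ¬ Ideal.span s ≤ q := fun q hq hle => by
    obtain ⟨hp, hsm⟩ := hmin q hq
    have : (⟨q, hp⟩ : PrimeSpectrum C) ∈ (Algebra.smoothLocus k C)ᶜ := by
      rw [hs]; exact fun x hx => hle (Ideal.subset_span hx)
    exact this hsm
  obtain ⟨η, hη, hηmin⟩ : ∃ η ∈ Ideal.span s, ∀ q ∈ minimalPrimes C, η ∉ q := by
    by_contra hc
    push Not at hc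
    have hfin : (minimalPrimes C).Finite := minimalPrimes.finite_of_isNoetherianRing C
    obtain ⟨q, hq, hle⟩ := (Ideal.subset_union_prime (s := hfin.toFinset) (f := id) ⊥ ⊥
      (fun i hi _ _ => (hfin.mem_toFinset.mp hi).1.1) (I := Ideal.span s)).mp fun x hx => by
        obtain ⟨q, hq, hxq⟩ := hc x hx
        simp only [Set.mem_iUnion]
        exact ⟨q, hfin.mem_toFinset.mpr hq, hxq⟩
    exact hns q (hfin.mem_toFinset.mp hq) hle
  obtain ⟨h, rfl⟩ := Ideal.Quotient.mk_surjective η
  have hreg : ∀ y, h * y ∈ J → y ∈ J := fun y hy => by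
    rw [← Ideal.Quotient.eq_zero_iff_mem]
    refine IsNilpotent.eq_zero (mem_nilradical.mp ?_)
    rw [nilradical, Ideal.radical_eq_sInf, Submodule.mem_sInf]
    intro q hq
    haveI := hq.2
    obtain ⟨q₀, hq₀, hle⟩ := Ideal.exists_minimalPrimes_le (J := q) (bot_le : (⊥ : Ideal C) ≤ _)
    refine hle ?_
    have h0 : (Ideal.Quotient.mk J h) * (Ideal.Quotient.mk J y) ∈ q₀ := by
      rw [← map_mul, Ideal.Quotient.eq_zero_iff_mem.mpr hy]
      exact q₀.zero_mem
    exact (hq₀.1.1.mem_or_mem h0).resolve_left (hηmin q₀ hq₀)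
  haveI : Algebra.Smooth k (Localization.Away (Ideal.Quotient.mk J h)) :=
    Algebra.basicOpen_subset_smoothLocus_iff_smooth.mp fun q hq => by
      by_contra hns'
      have : q ∈ (Algebra.smoothLocus k C)ᶜ := hns'
      rw [hs] at this
      exact hq (Ideal.span_le.mpr this hη)
  let Ph := Localization.Away h
  let Jh : Ideal Ph := J.map (algebraMap P Ph)
  let Ch := Ph ⧸ Jh
  haveI : IsLocalization.Away (Ideal.Quotient.mk J h) Ch := by
    have h' : IsLocalization (Algebra.algebraMapSubmonoid C (Submonoid.powers h)) Ch := inferInstance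
    rwa [Algebra.algebraMapSubmonoid_powers] at h'
  haveI : IsScalarTower k C Ch := IsScalarTower.of_algebraMap_eq (R := k) (S := C) (A := Ch) fun _ => rfl
  let ee := IsLocalization.algEquiv (Submonoid.powers (Ideal.Quotient.mk J h))
    (Localization.Away (Ideal.Quotient.mk J h)) Ch
  haveI : Algebra.FormallySmooth k Ch := Algebra.FormallySmooth.of_equiv (ee.restrictScalars k)
  have hsur : Function.Surjective (algebraMap Ph Ch) := Ideal.Quotient.mk_surjective
  haveI : Algebra.FormallySmooth P Ph := Algebra.FormallySmooth.of_isLocalization (Submonoid.powers h)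
  haveI : Algebra.FormallySmooth k Ph := Algebra.FormallySmooth.comp k P Ph
  obtain ⟨l, hl⟩ := (Algebra.FormallySmooth.iff_split_injection (R := k) hsur).mp inferInstance
  have hlam : ∀ i, ∃ (m : ℕ) (a : P) (x : RingHom.ker (algebraMap Ph Ch)), a ∈ J ∧
      algebraMap P Ph h ^ m * (x : Ph) = algebraMap P Ph a ∧
      l ((1 : Ch) ⊗ₜ[Ph] KaehlerDifferential.D k Ph (algebraMap P Ph (MvPolynomial.X i))) = Ideal.toCotangent _ x := by
    intro i
    obtain ⟨x, hx⟩ := Ideal.toCotangent_surjective _
      (l ((1 : Ch) ⊗ₜ[Ph] KaehlerDifferential.D k Ph (algebraMap P Ph (MvPolynomial.X i))))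
    obtain ⟨⟨⟨a, ha⟩, ⟨_, m, rfl⟩⟩, hax⟩ := (IsLocalization.mem_map_algebraMap_iff (Submonoid.powers h) Ph).mp
      (Ideal.Quotient.eq_zero_iff_mem.mp x.2)
    exact ⟨m, a, x, ha, by rw [← map_pow, mul_comm]; exact hax, hx.symm⟩
  choose m a x ha hax hlx using hlam
  let M := ∑ i, m i
  have hgJ : ∀ t, g t ∈ J := fun t => hg ▸ Ideal.subset_span ⟨t, rfl⟩
  have hrel : ∀ t, ∃ m' : ℕ, h ^ m' * (h ^ M * g t - ∑ i, MvPolynomial.pderiv i (g t) * (h ^ (M - m i) * a i)) ∈ J ^ 2 := by
    intro t
    have hm : algebraMap P Ph (g t) ∈ RingHom.ker (algebraMap Ph Ch) :=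
      Ideal.Quotient.eq_zero_iff_mem.mpr (Ideal.mem_map_of_mem _ (hgJ t))
    have h1 := LinearMap.congr_fun hl (Ideal.toCotangent _ ⟨_, hm⟩)
    rw [LinearMap.comp_apply, LinearMap.id_apply, KaehlerDifferential.kerCotangentToTensor_toCotangent,
      D_algebraMap_eq] at h1
    simp only [TensorProduct.tmul_sum, TensorProduct.tmul_smul, map_sum, map_smul] at h1
    change ∑ i, algebraMap P Ph (MvPolynomial.pderiv i (g t)) •
      l ((1 : Ch) ⊗ₜ[Ph] KaehlerDifferential.D k Ph (algebraMap P Ph (MvPolynomial.X i))) = _ at h1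
    simp only [hlx] at h1
    simp only [← map_smul, ← map_sum] at h1
    rw [Ideal.toCotangent_eq] at h1
    simp only [Submodule.coe_sum, Submodule.coe_smul, smul_eq_mul] at h1
    have h2 : algebraMap P Ph (h ^ M * g t - ∑ i, MvPolynomial.pderiv i (g t) * (h ^ (M - m i) * a i)) ∈
        RingHom.ker (algebraMap Ph Ch) ^ 2 := by
      have := Submodule.neg_mem _ (Ideal.mul_mem_left _ (algebraMap P Ph h ^ M) h1)
      convert this using 1
      rw [mul_sub, neg_sub, map_sub, map_mul, map_pow, map_sum, Finset.mul_sum]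
      congr 1
      refine Finset.sum_congr rfl fun i _ => ?_
      rw [map_mul, map_mul, ← hax i, map_pow, ← mul_assoc (algebraMap P Ph h ^ (M - m i)),
        ← pow_add, Nat.sub_add_cancel (Finset.single_le_sum (fun i _ => Nat.zero_le (m i)) (Finset.mem_univ i))]
      ring
    have hk : RingHom.ker (algebraMap Ph Ch) = Jh := Ideal.mk_ker
    rw [hk, ← Ideal.map_pow, IsLocalization.algebraMap_mem_map_algebraMap_iff (Submonoid.powers h) Ph] at h2
    obtain ⟨_, ⟨m', rfl⟩, h'⟩ := h2
    exact ⟨m', h'⟩
  choose m' hm' using hrel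
  let M' := ∑ t, m' t
  have hpow : ∀ t, ∃ n, g t ^ n ∈ Ideal.span (Set.range S) := fun t => hgJ t
  choose n hn using hpow
  let e := M + M' + ∑ t, n t
  have hz : ∀ j, ∃ z : Fin r → P, ∑ u, z u * g u = S j := fun j => Ideal.mem_span_range_iff_exists_fun.mp (by
    rw [hg]; exact Ideal.le_radical (Ideal.subset_span ⟨j, rfl⟩))
  have hw : ∀ t, ∃ w : β → P, ∑ j, w j * S j = g t ^ e := fun t => Ideal.mem_span_range_iff_exists_fun.mp
    (Ideal.pow_mem_of_pow_mem _ (hn t) ((Finset.single_le_sum (fun t _ => Nat.zero_le (n t)) (Finset.mem_univ t)).trans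
      (Nat.le_add_left _ _)))
  have hc : ∀ i, ∃ c : Fin r → P, ∑ u, c u * g u = h ^ (e - M) * (h ^ (M - m i) * a i) := fun i =>
    Ideal.mem_span_range_iff_exists_fun.mp (by rw [hg]; exact Ideal.mul_mem_left _ _ (Ideal.mul_mem_left _ _ (ha i)))
  choose z hz using hz
  choose w hw using hw
  choose c hc using hc
  have hd : ∀ t, ∃ d : Fin r × Fin r → P, ∑ uv, d uv * (g uv.1 * g uv.2) =
      h ^ e * g t - ∑ i, MvPolynomial.pderiv i (g t) * (∑ u, c i u * g u) := by
    intro t
    refine Ideal.mem_span_range_iff_exists_fun.mp ?_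
    have hset : Ideal.span (Set.range fun uv : Fin r × Fin r => g uv.1 * g uv.2) = J ^ 2 := by
      rw [pow_two, ← hg, Ideal.span_mul_span']
      congr 1
      ext p
      simp only [Set.mem_mul, Set.mem_range, exists_exists_eq_and, Prod.exists]
    rw [hset]
    have hle : m' t ≤ e - M := by
      have := Finset.single_le_sum (fun t _ => Nat.zero_le (m' t)) (Finset.mem_univ t)
      simp only [e, M'] at this ⊢
      omega
    have := Ideal.mul_mem_left _ (h ^ (e - M - m' t)) (hm' t)
    convert this using 1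
    rw [← mul_assoc, ← pow_add, Nat.sub_add_cancel hle, mul_sub, ← mul_assoc, ← pow_add,
      Nat.sub_add_cancel (show M ≤ e by simp only [e]; omega), Finset.mul_sum]
    congr 1
    exact Finset.sum_congr rfl fun i _ => by rw [hc i]; ring
  choose d hd using hd
  refine ⟨r, g, h, e, z, w, c, fun t u v => d t (u, v), ⟨fun j => (hz j).symm, fun t => (hw t).symm, fun t => ?_⟩, ?_⟩
  · rw [← Fintype.sum_prod_type']
    exact (hd t).symm
  · rw [hg]
    exact hreg

end L02.CAlg.RadBound
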