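import Groth.Agent.L02.CAlg.RadBound.Syzygy
import Mathlib.LinearAlgebra.Basis.Basic

/-!
Coordinates of polynomials over a finite extension.
-/

set_option autoImplicit false
universe u

open MvPolynomial

namespace L02.CAlg.RadBound

variable {k k' : Type u} [Field k] [Field k'] [Algebra k k'] {N d : ℕ} (e : Module.Basis (Fin d) k k')

/-- The `i`-th coordinate of a polynomial over `k'`, as a function. -/
noncomputable def coordFun (i : Fin d) (q : MvPolynomial (Fin N) k') : MvPolynomial (Fin N) k :=
  ∑ s ∈ q.support, monomial s (e.repr (q.coeff s) i)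

theorem coeff_coordFun (i : Fin d) (q : MvPolynomial (Fin N) k') (s : Fin N →₀ ℕ) :
    (coordFun e i q).coeff s = e.repr (q.coeff s) i := by
  classical
  simp only [coordFun, coeff_sum, coeff_monomial, Finset.sum_ite_eq']
  split_ifs with h
  · rfl
  · rw [notMem_support_iff.mp h, map_zero, Finsupp.zero_apply]

/-- The `i`-th coordinate of a polynomial over `k'`. -/
noncomputable def coord (i : Fin d) : MvPolynomial (Fin N) k' →+ MvPolynomial (Fin N) k where
  toFun := coordFun e i
  map_zero' := MvPolynomial.ext _ _ fun s => by simp [coeff_coordFun]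
  map_add' p q := MvPolynomial.ext _ _ fun s => by simp [coeff_coordFun]

theorem coeff_coord (i : Fin d) (q : MvPolynomial (Fin N) k') (s : Fin N →₀ ℕ) :
    (coord e i q).coeff s = e.repr (q.coeff s) i := coeff_coordFun e i q s

theorem sum_coord (q : MvPolynomial (Fin N) k') :
    ∑ i, map (algebraMap k k') (coord e i q) * C (e i) = q := by
  refine MvPolynomial.ext _ _ fun s => ?_
  simp only [coeff_sum, coeff_map, coeff_coord, mul_comm _ (C (e _)), coeff_C_mul]
  conv_rhs => rw [← e.sum_repr (q.coeff s)]
  exact Finset.sum_congr rfl fun i _ => by rw [Algebra.smul_def, mul_comm]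

theorem coord_map_mul (i : Fin d) (p : MvPolynomial (Fin N) k) (q : MvPolynomial (Fin N) k') :
    coord e i (map (algebraMap k k') p * q) = p * coord e i q := by
  classical
  refine MvPolynomial.ext _ _ fun s => ?_
  rw [coeff_coord, coeff_mul, coeff_mul, map_sum, Finsupp.finsetSum_apply]
  refine Finset.sum_congr rfl fun x _ => ?_
  rw [coeff_map, coeff_coord, ← Algebra.smul_def, map_smul, Finsupp.smul_apply, smul_eq_mul]

theorem totalDegree_coord_le (i : Fin d) (q : MvPolynomial (Fin N) k') :
    (coord e i q).totalDegree ≤ q.totalDegree := by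
  refine Finset.sup_mono fun s hs => ?_
  rw [mem_support_iff, coeff_coord] at hs
  rw [mem_support_iff]
  intro h
  rw [h, map_zero, Finsupp.zero_apply] at hs
  exact hs rfl

variable {β : Type} [Fintype β]

/-- Equations for the contraction of an ideal from `k'[X]`. -/
theorem map_mem_span_iff {r : ℕ} (g : Fin r → MvPolynomial (Fin N) k') (P : MvPolynomial (Fin N) k) :
    map (algebraMap k k') P ∈ Ideal.span (Set.range g) ↔
      ∃ x : Option (Fin r × Fin d) → MvPolynomial (Fin N) k, x none = P ∧
        ∀ i, ∑ a, x a * coord e i (a.elim 1 fun tj => C (e tj.2) * g tj.1) = 0 := by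
  rw [Ideal.mem_span_range_iff_exists_fun]
  constructor
  · rintro ⟨c, hc⟩
    refine ⟨fun a => a.elim P fun tj => -coord e tj.2 (c tj.1), rfl, fun i => ?_⟩
    simp only [← coord_map_mul, ← map_sum]
    rw [Fintype.sum_option]
    simp only [Option.elim, mul_one]
    rw [← hc, Fintype.sum_prod_type]
    conv =>
      lhs; arg 2; arg 1
      arg 2; ext t; rw [← sum_coord e (c t), Finset.sum_mul]
    rw [← Finset.sum_add_distrib, Finset.sum_eq_zero fun t _ => ?_, map_zero]
    rw [← Finset.sum_add_distrib, Finset.sum_eq_zero fun j _ => ?_]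
    rw [map_neg]
    ring
  · rintro ⟨x, rfl, hx⟩
    refine ⟨fun t => -∑ j, map (algebraMap k k') (x (some (t, j))) * C (e j), ?_⟩
    have h : ∑ a, map (algebraMap k k') (x a) * (a.elim 1 fun tj : Fin r × Fin d => C (e tj.2) * g tj.1) = 0 := by
      rw [← sum_coord e (∑ a, _)]
      refine Finset.sum_eq_zero fun i _ => ?_
      simp only [map_sum, coord_map_mul]
      simp only [← map_sum, hx i, map_zero, zero_mul]
    rw [Fintype.sum_option, Fintype.sum_prod_type] at h
    simp only [Option.elim, mul_one] at h
    rw [eq_neg_of_add_eq_zero_left h, ← Finset.sum_neg_distrib]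
    refine Finset.sum_congr rfl fun t _ => ?_
    rw [neg_mul, Finset.sum_mul]
    exact congrArg Neg.neg (Finset.sum_congr rfl fun j _ => by ring)

theorem mem_span_of_map_mem (hd : ∃ i, e.repr 1 i ≠ 0) (S : β → MvPolynomial (Fin N) k) (P : MvPolynomial (Fin N) k)
    (h : map (algebraMap k k') P ∈ Ideal.span (Set.range fun j => map (algebraMap k k') (S j))) :
    P ∈ Ideal.span (Set.range S) := by
  obtain ⟨i, hi⟩ := hd
  obtain ⟨c, hc⟩ := Ideal.mem_span_range_iff_exists_fun.mp h
  have h1 := congrArg (coord e i) hc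
  rw [map_sum] at h1
  simp only [mul_comm (c _), coord_map_mul] at h1
  conv_rhs at h1 => rw [← mul_one (map (algebraMap k k') P), coord_map_mul]
  have h2 : coord e i (1 : MvPolynomial (Fin N) k') = C (e.repr 1 i) := by
    classical
    refine MvPolynomial.ext _ _ fun s => ?_
    rw [coeff_coord, coeff_one, coeff_C]
    split <;> simp
  rw [h2] at h1
  have h3 : P = ∑ j, (C (e.repr 1 i)⁻¹ * coord e i (c j)) * S j := by
    have h4 : P = C (e.repr 1 i)⁻¹ * (P * C (e.repr 1 i)) := by
      rw [mul_left_comm, ← map_mul, inv_mul_cancel₀ hi, map_one, mul_one]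
    rw [h4, ← h1, Finset.mul_sum]
    exact Finset.sum_congr rfl fun j _ => by ring
  rw [h3]
  exact Submodule.sum_mem _ fun j _ => Ideal.mul_mem_left _ _ (Ideal.subset_span ⟨j, rfl⟩)

end L02.CAlg.RadBound
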