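import Groth.Agent.L07.GenericFree
import Mathlib.RingTheory.TensorProduct.MvPolynomial
import Mathlib.RingTheory.Flat.Localization
import Mathlib.LinearAlgebra.TensorProduct.RightExactness
import Mathlib.LinearAlgebra.TensorProduct.Pi
import Mathlib.RingTheory.Localization.BaseChange
import Mathlib.Algebra.Module.Projective

/-!
Kernels of polynomial matrices commute with base change over an open part of the parameters.
-/

set_option autoImplicit false
universe u

open TensorProduct

namespace L02.CAlg.RadBound

section Split

variable {L : Type} [CommRing L] (Lf : Type) [CommRing Lf] [Algebra L Lf] [Module.Flat L Lf]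
  {K F G : Type} [AddCommGroup K] [AddCommGroup F] [AddCommGroup G] [Module L K] [Module L F] [Module L G]

/-- A kernel commutes with base change when the cokernel becomes projective. -/
theorem ker_baseChange_le (ι : K →ₗ[L] F) (M : F →ₗ[L] G) (h : Function.Exact ι M) [Module.Projective L G]
    [Module.Projective Lf (Lf ⊗[L] (G ⧸ LinearMap.range M))]
    (k : Type u) [CommRing k] [Algebra L k] [Algebra Lf k] [IsScalarTower L Lf k]
    (z : k ⊗[L] F) (hz : M.baseChange k z = 0) : z ∈ LinearMap.range (ι.baseChange k) := by
  let π := (LinearMap.range M).mkQ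
  have e1 : Function.Exact (ι.baseChange Lf) (M.baseChange Lf) := by
    rw [LinearMap.baseChange_eq_ltensor, LinearMap.baseChange_eq_ltensor]
    exact Module.Flat.lTensor_exact Lf h
  have e2 : Function.Exact (M.baseChange Lf) (π.baseChange Lf) := by
    rw [LinearMap.baseChange_eq_ltensor, LinearMap.baseChange_eq_ltensor]
    exact lTensor_exact Lf (LinearMap.exact_map_mkQ_range M) (Submodule.mkQ_surjective _)
  have hπ : Function.Surjective (π.baseChange Lf) := by
    rw [LinearMap.baseChange_eq_ltensor]
    exact LinearMap.lTensor_surjective _ (Submodule.mkQ_surjective _)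
  obtain ⟨s, hs⟩ := Module.projective_lifting_property (π.baseChange Lf) LinearMap.id hπ
  have hmem : ∀ g, (LinearMap.id - s ∘ₗ π.baseChange Lf : _ →ₗ[Lf] Lf ⊗[L] G) g ∈
      LinearMap.range (M.baseChange Lf) := fun g => (e2 _).mp (by
    simp only [LinearMap.sub_apply, LinearMap.id_apply, LinearMap.comp_apply, map_sub]
    rw [show π.baseChange Lf (s (π.baseChange Lf g)) = π.baseChange Lf g from LinearMap.congr_fun hs _, sub_self])
  obtain ⟨w, hw⟩ := Module.projective_lifting_property (M.baseChange Lf).rangeRestrict
    ((LinearMap.id - s ∘ₗ π.baseChange Lf).codRestrict _ hmem) (LinearMap.surjective_rangeRestrict _)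
  have hw' : ∀ x, M.baseChange Lf (w (M.baseChange Lf x)) = M.baseChange Lf x := fun x => by
    have h1 : M.baseChange Lf (w (M.baseChange Lf x)) = M.baseChange Lf x - s (π.baseChange Lf (M.baseChange Lf x)) :=
      congrArg Subtype.val (LinearMap.congr_fun hw (M.baseChange Lf x))
    rw [h1, e2.apply_apply_eq_zero, map_zero, sub_zero]
  let eF := AlgebraTensorModule.cancelBaseChange L Lf k k F
  let eG := AlgebraTensorModule.cancelBaseChange L Lf k k G
  have nat : ∀ y, M.baseChange k (eF y) = eG ((M.baseChange Lf).lTensor k y) := by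
    intro y
    induction y using TensorProduct.induction_on with
    | zero => simp
    | add a b ha hb => simp only [map_add, ha, hb]
    | tmul c t =>
      induction t using TensorProduct.induction_on with
      | zero => simp
      | add a b ha hb => simp only [tmul_add, map_add, ha, hb]
      | tmul l x => simp [eF, eG]
  obtain ⟨y, rfl⟩ := eF.surjective z
  rw [nat, map_eq_zero_iff _ eG.injective] at hz
  have key : ∀ y : k ⊗[Lf] (Lf ⊗[L] F),
      eF (y - w.lTensor k ((M.baseChange Lf).lTensor k y)) ∈ LinearMap.range (ι.baseChange k) := by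
    intro y
    induction y using TensorProduct.induction_on with
    | zero => simp
    | add a b ha hb =>
      rw [map_add, map_add, add_sub_add_comm, map_add]
      exact add_mem ha hb
    | tmul c t =>
      rw [LinearMap.lTensor_tmul, LinearMap.lTensor_tmul, ← tmul_sub]
      have : M.baseChange Lf (t - w (M.baseChange Lf t)) = 0 := by rw [map_sub, hw', sub_self]
      obtain ⟨x, hx⟩ := (e1 _).mp this
      rw [← hx]
      clear hx
      induction x using TensorProduct.induction_on with
      | zero => simp
      | add a b ha hb =>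
        rw [map_add, tmul_add, map_add]
        exact add_mem ha hb
      | tmul l x => exact ⟨(l • c) ⊗ₜ[L] x, by simp [eF]⟩
  have h3 := key y
  rwa [hz, map_zero, sub_zero] at h3

end Split

variable {N : ℕ}

/-- Generators of the relations between polynomial vectors remain generators under specialisation. -/
theorem exists_kernel_generators {L : Type} [CommRing L] [IsDomain L] [IsNoetherianRing L] {α β : Type}
    [Fintype α] [Fintype β] (v : α → β → MvPolynomial (Fin N) L) :
    ∃ f : L, f ≠ 0 ∧ ∃ κ : Finset (α → MvPolynomial (Fin N) L), (∀ x ∈ κ, ∀ b, ∑ a, x a * v a b = 0) ∧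
      ∀ (k : Type u) [CommRing k] (ψ : L →+* k), IsUnit (ψ f) → ∀ y : α → MvPolynomial (Fin N) k,
        (∀ b, ∑ a, y a * MvPolynomial.map ψ (v a b) = 0) →
          y ∈ Submodule.span (MvPolynomial (Fin N) k) ((fun (x : α → MvPolynomial (Fin N) L) (a : α) => MvPolynomial.map ψ (x a)) '' (↑κ : Set (α → MvPolynomial (Fin N) L))) := by
  classical
  let P := MvPolynomial (Fin N) L
  let M : (α → P) →ₗ[P] (β → P) := Fintype.linearCombination P v
  have hM : ∀ x b, M x b = ∑ a, x a * v a b := fun x b => by
    simp [M, Fintype.linearCombination_apply, Finset.sum_apply]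
  obtain ⟨κ, hκ⟩ := (IsNoetherian.noetherian (LinearMap.ker M) : (LinearMap.ker M).FG)
  let ML : (α → P) →ₗ[L] (β → P) := M.restrictScalars L
  obtain ⟨f, hf, hfree⟩ := Groth.L07.GenFree.exists_freeAt (R := L) (S := P) ((β → P) ⧸ LinearMap.range M)
  refine ⟨f, hf, κ, fun x hx b => ?_, fun k _ ψ hψ y hy => ?_⟩
  · rw [← hM]
    have : x ∈ LinearMap.ker M := hκ ▸ Submodule.subset_span hx
    rw [LinearMap.mem_ker] at this
    rw [this]
    rfl
  let Lf := Localization.Away f
  haveI : Module.Free Lf (Lf ⊗[L] ((β → P) ⧸ LinearMap.range ML)) := by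
    have hrange : LinearMap.range ML = (LinearMap.range M).restrictScalars L := by
      ext z; simp [ML]
    haveI : IsLocalizedModule (Submonoid.powers f) (TensorProduct.mk L Lf ((β → P) ⧸ LinearMap.range ML) 1) :=
      (isLocalizedModule_iff_isBaseChange (Submonoid.powers f) Lf _).mpr (TensorProduct.isBaseChange L _ Lf)
    refine Groth.L07.GenFree.FreeAt.free (M := (β → P) ⧸ LinearMap.range ML) hf (hfree.of_equiv ?_) Lf _
      (TensorProduct.mk L Lf ((β → P) ⧸ LinearMap.range ML) 1)
    exact ((Submodule.Quotient.restrictScalarsEquiv L (LinearMap.range M)).symm ≪≫ₗ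
      Submodule.quotEquivOfEq _ _ hrange.symm)
  letI : Algebra L k := ψ.toAlgebra
  letI : Algebra Lf k := (IsLocalization.Away.lift f (g := ψ) hψ).toAlgebra
  haveI : IsScalarTower L Lf k := IsScalarTower.of_algebraMap_eq fun z =>
    (IsLocalization.Away.lift_eq f hψ z).symm
  let ι : LinearMap.ker ML →ₗ[L] (α → P) := (LinearMap.ker ML).subtype
  let et := MvPolynomial.algebraTensorAlgEquiv (σ := Fin N) L k
  let eα := (TensorProduct.piRight L k k fun _ : α => P) ≪≫ₗ LinearEquiv.piCongrRight fun _ => et.toLinearEquiv
  let eβ := (TensorProduct.piRight L k k fun _ : β => P) ≪≫ₗ LinearEquiv.piCongrRight fun _ => et.toLinearEquiv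
  have hα : ∀ c x a, eα (c ⊗ₜ x) a = c • MvPolynomial.map ψ (x a) := fun c x a => by
    simp [eα, et]
    exact MvPolynomial.algebraTensorAlgEquiv_tmul L k c (x a)
  have hβ : ∀ c x b, eβ (c ⊗ₜ x) b = c • MvPolynomial.map ψ (x b) := fun c x b => by
    simp [eβ, et]
    exact MvPolynomial.algebraTensorAlgEquiv_tmul L k c (x b)
  have nat : ∀ z b, eβ (ML.baseChange k z) b = ∑ a, eα z a * MvPolynomial.map ψ (v a b) := by
    intro z b
    induction z using TensorProduct.induction_on with
    | zero => simp
    | add z z' hz hz' =>
      simp only [map_add, Pi.add_apply, hz, hz', add_mul, Finset.sum_add_distrib]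
    | tmul c x =>
      rw [LinearMap.baseChange_tmul, hβ, show ML x b = ∑ a, x a * v a b from hM x b, map_sum, Finset.smul_sum]
      exact Finset.sum_congr rfl fun a _ => by rw [hα, map_mul, smul_mul_assoc]
  have hz : ML.baseChange k (eα.symm y) = 0 := eβ.injective (by
    funext b
    rw [nat, LinearEquiv.apply_symm_apply, hy, map_zero]
    rfl)
  have hmem := ker_baseChange_le Lf ι ML (LinearMap.exact_subtype_ker_map ML) k _ hz
  suffices H : ∀ w, eα (ι.baseChange k w) ∈
      Submodule.span (MvPolynomial (Fin N) k) ((fun (x : α → MvPolynomial (Fin N) L) (a : α) => MvPolynomial.map ψ (x a)) '' (↑κ : Set (α → MvPolynomial (Fin N) L))) by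
    obtain ⟨w, hw⟩ := hmem
    have := H w
    rwa [hw, LinearEquiv.apply_symm_apply] at this
  intro w
  induction w using TensorProduct.induction_on with
  | zero => simp
  | add w w' hw hw' => simp only [map_add]; exact add_mem hw hw'
  | tmul c x =>
    have hx : (x : α → P) ∈ Submodule.span P (κ : Set (α → P)) := by
      rw [hκ]
      exact x.2
    have h1 : (fun a => MvPolynomial.map ψ ((x : α → P) a)) ∈
        Submodule.span (MvPolynomial (Fin N) k) ((fun (x : α → MvPolynomial (Fin N) L) (a : α) => MvPolynomial.map ψ (x a)) '' (↑κ : Set (α → MvPolynomial (Fin N) L))) := by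
      generalize (x : α → P) = z0 at hx ⊢
      induction hx using Submodule.span_induction with
      | mem z hz => exact Submodule.subset_span ⟨z, hz, rfl⟩
      | zero => simp only [Pi.zero_apply, map_zero]; exact Submodule.zero_mem _
      | add z z' _ _ hz hz' => simp only [Pi.add_apply, map_add]; exact Submodule.add_mem _ hz hz'
      | smul p z _ hz =>
        simp only [Pi.smul_apply, smul_eq_mul, map_mul]
        exact Submodule.smul_mem _ (MvPolynomial.map ψ p) hz
    have h2 : eα (ι.baseChange k (c ⊗ₜ x)) = (MvPolynomial.C c : MvPolynomial (Fin N) k) • fun a => MvPolynomial.map ψ ((x : α → P) a) := by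
      funext a
      rw [LinearMap.baseChange_tmul, hα, Pi.smul_apply, smul_eq_mul, MvPolynomial.smul_eq_C_mul]
      rfl
    rw [h2]
    exact Submodule.smul_mem _ _ h1

end L02.CAlg.RadBound
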