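import Mathlib.FieldTheory.IsAlgClosed.AlgebraicClosure
import Mathlib.RingTheory.Algebraic.Integral
import Mathlib.RingTheory.Localization.Away.Basic
import Mathlib.RingTheory.Ideal.GoingUp
import Mathlib.RingTheory.Adjoin.FG
import Mathlib.RingTheory.TensorProduct.Finite
import Mathlib.LinearAlgebra.Dimension.Finite

/-!
Algebraic numbers over a parameter ring specialise to bounded extensions of the fields of its points.
-/

set_option autoImplicit false
universe u

open scoped TensorProduct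

namespace L02.CAlg.RadBound

/-- A finite set of elements algebraic over `L` specialises to extensions of bounded degree. -/
theorem exists_model {L : Type} [CommRing L] [IsDomain L] [IsNoetherianRing L] {Kb : Type} [Field Kb]
    [Algebra L Kb] [FaithfulSMul L Kb] [Algebra.IsAlgebraic L Kb] (E : Finset Kb) :
    ∃ (d : ℕ) (B : Subring Kb), (∀ x ∈ E, x ∈ B) ∧ ∃ hB : ∀ x, algebraMap L Kb x ∈ B,
      ∀ b : B, b ≠ 0 → ∃ f : L, f ≠ 0 ∧ ∀ (k₀ : Type u) [Field k₀] (ψ : L →+* k₀), ψ f ≠ 0 →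
        ∃ (k' : Type u) (_ : Field k') (_ : Algebra k₀ k') (_ : Module.Finite k₀ k') (Ψ : B →+* k'),
          Module.finrank k₀ k' ≤ d ∧ (∀ x, Ψ ⟨_, hB x⟩ = algebraMap k₀ k' (ψ x)) ∧ Ψ b ≠ 0 := by
  classical
  obtain ⟨c, hc, hint⟩ := Algebra.IsAlgebraic.exists_integral_multiples L E
  let B₀ := Algebra.adjoin L ((fun x => c • x) '' (E : Set Kb))
  haveI : Module.Finite L B₀ := Module.Finite.iff_fg.mpr (fg_adjoin_of_finite (E.finite_toSet.image _) (by
    rintro _ ⟨x, hx, rfl⟩; exact hint x hx))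
  obtain ⟨d, sgen, hsgen⟩ := Module.Finite.exists_fin (R := L) (M := B₀)
  have hinjL : Function.Injective (algebraMap L Kb) := FaithfulSMul.algebraMap_injective L Kb
  have hcKb : algebraMap L Kb c ≠ 0 := (map_ne_zero_iff _ hinjL).mpr hc
  let cB : B₀ := algebraMap L B₀ c
  have hcB : IsUnit (B₀.val.toRingHom cB) := isUnit_iff_ne_zero.mpr hcKb
  let ι : Localization.Away cB →+* Kb := IsLocalization.Away.lift cB (g := B₀.val.toRingHom) hcB
  have hι : ∀ x, ι (algebraMap B₀ _ x) = (x : Kb) := fun x => IsLocalization.Away.lift_eq cB hcB x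
  have hιinj : Function.Injective ι := by
    rw [injective_iff_map_eq_zero]
    intro z hz
    obtain ⟨⟨a, s⟩, hs⟩ := IsLocalization.surj (Submonoid.powers cB) z
    have h := congrArg ι hs
    rw [map_mul, hz, zero_mul, hι] at h
    have ha : a = 0 := Subtype.ext h.symm
    rw [ha, map_zero] at hs
    exact (IsUnit.mul_left_eq_zero (IsLocalization.map_units _ s)).mp hs
  refine ⟨d, ι.range, fun x hx => ?_, fun x => ⟨algebraMap B₀ _ (algebraMap L B₀ x), by rw [hι]; rfl⟩,
    fun b hb => ?_⟩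
  · obtain ⟨u, hu⟩ := (IsLocalization.Away.algebraMap_isUnit (S := Localization.Away cB) cB)
    refine ⟨(↑u⁻¹ : Localization.Away cB) * algebraMap B₀ _ ⟨c • x, Algebra.subset_adjoin ⟨x, hx, rfl⟩⟩, ?_⟩
    refine mul_left_cancel₀ hcKb ?_
    rw [map_mul, hι, ← mul_assoc, show algebraMap L Kb c = ι u by rw [hu, hι]; rfl, ← map_mul, Units.mul_inv,
      map_one, one_mul]
    show c • x = ι u * x
    rw [hu, hι, Algebra.smul_def]
    rfl
  let eR : Localization.Away cB ≃+* ι.range := RingEquiv.ofBijective ι.rangeRestrict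
    ⟨fun a a' h => hιinj (congrArg Subtype.val h), ι.rangeRestrict_surjective⟩
  obtain ⟨⟨b₀, s⟩, hbs⟩ := IsLocalization.surj (Submonoid.powers cB) (eR.symm b)
  have hb₀ : b₀ ≠ 0 := by
    intro h
    rw [h, map_zero] at hbs
    exact hb (eR.symm.injective (((IsUnit.mul_left_eq_zero (IsLocalization.map_units _ s)).mp hbs).trans (map_zero _).symm))
  obtain ⟨f, hf, q, hq⟩ : ∃ f : L, f ≠ 0 ∧ b₀ ∣ algebraMap L B₀ f :=
    (Algebra.IsAlgebraic.isAlgebraic (R := L) b₀).exists_nonzero_dvd (mem_nonZeroDivisors_of_ne_zero hb₀)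
  refine ⟨c * f, mul_ne_zero hc hf, fun k₀ _ ψ hψ => ?_⟩
  rw [map_mul] at hψ
  letI : Algebra L k₀ := ψ.toAlgebra
  have hBinj : Function.Injective (algebraMap L B₀) := fun x y h => hinjL (congrArg Subtype.val h)
  haveI hp₀ : (RingHom.ker ψ).IsPrime := RingHom.ker_isPrime ψ
  obtain ⟨P, hP, hPc⟩ := Ideal.exists_ideal_over_prime_of_isIntegral_of_isDomain (S := B₀) (RingHom.ker ψ)
    (by rw [(RingHom.injective_iff_ker_eq_bot _).mp hBinj]; exact bot_le)
  let R := L ⧸ RingHom.ker ψ
  let S := B₀ ⧸ P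
  letI : Algebra R S := (Ideal.quotientMap P (algebraMap L B₀) hPc.ge).toAlgebra
  haveI : IsScalarTower L R S := IsScalarTower.of_algebraMap_eq fun x => rfl
  haveI : Algebra.IsIntegral R S := Algebra.IsIntegral.tower_top (R := L)
  haveI : FaithfulSMul R S := by
    refine (faithfulSMul_iff_algebraMap_injective _ _).mpr ?_
    exact Ideal.quotientMap_injective' hPc.le
  let Ω := AlgebraicClosure k₀
  letI : Algebra R Ω := ((algebraMap k₀ Ω).comp (RingHom.kerLift ψ)).toAlgebra
  haveI : FaithfulSMul R Ω := (faithfulSMul_iff_algebraMap_injective _ _).mpr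
    ((algebraMap k₀ Ω).injective.comp (RingHom.kerLift_injective ψ))
  let θ : S →ₐ[R] Ω := IsAlgClosed.lift
  letI : Algebra B₀ Ω := ((θ : S →+* Ω).comp (Ideal.Quotient.mk P)).toAlgebra
  let θ₀ : B₀ →ₐ[L] Ω :=
    { (θ : S →+* Ω).comp (Ideal.Quotient.mk P) with
      commutes' := fun x => by
        show θ (Ideal.Quotient.mk P (algebraMap L B₀ x)) = algebraMap L Ω x
        rw [show Ideal.Quotient.mk P (algebraMap L B₀ x) = algebraMap R S (Ideal.Quotient.mk _ x) from rfl,
          AlgHom.commutes, IsScalarTower.algebraMap_apply L k₀ Ω]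
        rfl }
  let T := k₀ ⊗[L] B₀
  let Θ : T →ₐ[k₀] Ω := Algebra.TensorProduct.lift (Algebra.ofId k₀ Ω) θ₀ fun _ _ => Commute.all _ _
  haveI : Nontrivial T := Θ.toRingHom.domain_nontrivial
  obtain ⟨m, hm⟩ := Ideal.exists_maximal T
  letI : Field (T ⧸ m) := Ideal.Quotient.field m
  let π : T →ₐ[k₀] T ⧸ m := Ideal.Quotient.mkₐ k₀ m
  let Ψ₀ : B₀ →+* T ⧸ m := (π : T →+* T ⧸ m).comp (Algebra.TensorProduct.includeRight : B₀ →ₐ[L] T).toRingHom
  have hΨ₀ : ∀ x, Ψ₀ (algebraMap L B₀ x) = algebraMap k₀ (T ⧸ m) (ψ x) := fun x => by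
    show π ((Algebra.TensorProduct.includeRight : B₀ →ₐ[L] T) (algebraMap L B₀ x)) = _
    rw [AlgHom.commutes, IsScalarTower.algebraMap_apply L k₀ T, AlgHom.commutes]
    rfl
  have hu : IsUnit (Ψ₀ cB) := by
    rw [hΨ₀]
    exact (isUnit_iff_ne_zero.mpr (left_ne_zero_of_mul hψ)).map _
  let ΨL : Localization.Away cB →+* T ⧸ m := IsLocalization.Away.lift cB (g := Ψ₀) hu
  have hΨL : ∀ x, ΨL (algebraMap B₀ _ x) = Ψ₀ x := fun x => IsLocalization.Away.lift_eq cB hu x
  refine ⟨T ⧸ m, inferInstance, inferInstance, inferInstance, ΨL.comp eR.symm.toRingHom, ?_, fun x => ?_, ?_⟩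
  · have hsur : Function.Surjective (π.toLinearMap ∘ₗ Fintype.linearCombination k₀ fun i => (1 : k₀) ⊗ₜ[L] sgen i) := by
      refine Ideal.Quotient.mk_surjective.comp ?_
      rw [← LinearMap.range_eq_top, Fintype.range_linearCombination, eq_top_iff]
      rintro z -
      induction z using TensorProduct.induction_on with
      | zero => exact Submodule.zero_mem _
      | add z z' hz hz' => exact Submodule.add_mem _ hz hz'
      | tmul a y =>
        obtain ⟨co, rfl⟩ := (Submodule.mem_span_range_iff_exists_fun L).mp (hsgen ▸ Submodule.mem_top (x := y))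
        rw [TensorProduct.tmul_sum]
        refine Submodule.sum_mem _ fun i _ => ?_
        rw [TensorProduct.tmul_smul, TensorProduct.smul_tmul', show (co i • a : k₀) = (co i • a) • (1 : k₀) by rw [smul_eq_mul, mul_one],
          ← TensorProduct.smul_tmul']
        exact Submodule.smul_mem _ _ (Submodule.subset_span ⟨i, rfl⟩)
    have hsp := (LinearMap.finrank_le_finrank_of_surjective hsur)
    simpa using hsp
  · show ΨL (eR.symm _) = _
    rw [show eR.symm ⟨algebraMap L Kb x, _⟩ = algebraMap B₀ _ (algebraMap L B₀ x) from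
      eR.symm_apply_eq.mpr (Subtype.ext (show algebraMap L Kb x = ι _ by rw [hι]; rfl)), hΨL, hΨ₀]
  · show ΨL (eR.symm b) ≠ 0
    intro h0
    have h := congrArg ΨL hbs
    rw [map_mul, h0, zero_mul, hΨL] at h
    have h' := congrArg Ψ₀ hq
    rw [hΨ₀, map_mul, ← h, zero_mul] at h'
    exact right_ne_zero_of_mul hψ ((algebraMap k₀ (T ⧸ m)).injective (h'.trans (map_zero _).symm))

end L02.CAlg.RadBound
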