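import Groth.Agent.L02.CAlg.RadBound.Cert
import Groth.Agent.L02.CAlg.RadBound.Model
import Groth.Agent.L02.CAlg.RadBound.Coord
import Mathlib.FieldTheory.IsAlgClosed.AlgebraicClosure
import Mathlib.RingTheory.Adjoin.FG

/-!
The radical of an ideal of bounded degree is generated in bounded degree, uniformly in the field.
-/

set_option autoImplicit false
universe u

open MvPolynomial

namespace L02.CAlg.RadBound

variable {N : ℕ}

theorem exists_lift {R K : Type} [CommRing R] [CommRing K] {σ : Type} (f : R →+* K) (p : MvPolynomial σ K)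
    (h : ∀ x ∈ p.coeffs, x ∈ f.range) : ∃ q : MvPolynomial σ R, map f q = p :=
  RingHom.mem_range.mp (mem_range_map_iff_coeffs_subset.mpr fun x hx => h x hx)

/-- The stratum step. -/
theorem exists_stratum_bound {L : Type} [CommRing L] [IsDomain L] [IsNoetherianRing L] {β : Type} [Fintype β]
    (S : β → MvPolynomial (Fin N) L) :
    ∃ f : L, f ≠ 0 ∧ ∃ D : ℕ, ∀ (k₀ : Type u) [Field k₀] (ψ : L →+* k₀), ψ f ≠ 0 →
      (Ideal.span (Set.range fun j => map ψ (S j))).radical ≤ Ideal.span
        {q | q ∈ (Ideal.span (Set.range fun j => map ψ (S j))).radical ∧ q.totalDegree ≤ D} := by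
  classical
  let Kb := AlgebraicClosure (FractionRing L)
  haveI : Algebra.IsAlgebraic L (FractionRing L) := IsLocalization.isAlgebraic _ (nonZeroDivisors L)
  haveI : FaithfulSMul L Kb := (faithfulSMul_iff_algebraMap_injective _ _).mpr (by
    rw [IsScalarTower.algebraMap_eq L (FractionRing L) Kb]
    exact (algebraMap (FractionRing L) Kb).injective.comp (IsFractionRing.injective L (FractionRing L)))
  haveI : Algebra.IsAlgebraic L Kb := Algebra.IsAlgebraic.trans L (FractionRing L) Kb
  let S₀ : β → MvPolynomial (Fin N) Kb := fun j => map (algebraMap L Kb) (S j)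
  obtain ⟨r, g₀, h₀, e, z₀, w₀, c₀, d₀, hcert, hreg⟩ := exists_cert S₀
  let E₁ : Finset Kb := Finset.univ.biUnion (fun j => (S₀ j).coeffs) ∪ Finset.univ.biUnion (fun t => (g₀ t).coeffs) ∪
    h₀.coeffs ∪ Finset.univ.biUnion (fun x : β × Fin r => (z₀ x.1 x.2).coeffs) ∪
    Finset.univ.biUnion (fun x : Fin r × β => (w₀ x.1 x.2).coeffs) ∪
    Finset.univ.biUnion (fun x : Fin N × Fin r => (c₀ x.1 x.2).coeffs) ∪
    Finset.univ.biUnion (fun x : Fin r × Fin r × Fin r => (d₀ x.1 x.2.1 x.2.2).coeffs)
  let B₁ := Algebra.adjoin ℤ (E₁ : Set Kb)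
  let v₁ : B₁ →+* Kb := B₁.val.toRingHom
  haveI : Algebra.FiniteType ℤ B₁ := (Subalgebra.fg_iff_finiteType _).mp (Subalgebra.fg_adjoin_finset E₁)
  haveI : IsNoetherianRing B₁ := Algebra.FiniteType.isNoetherianRing ℤ _
  have hlift : ∀ (p : MvPolynomial (Fin N) Kb), p.coeffs ⊆ E₁ → ∃ q, map v₁ q = p := fun p hp =>
    exists_lift v₁ p fun x hx => ⟨⟨x, Algebra.subset_adjoin (hp hx)⟩, rfl⟩
  choose S₁ hS₁ using fun j => hlift (S₀ j) fun x hx => by simp [E₁]; grind
  choose g₁ hg₁ using fun t => hlift (g₀ t) fun x hx => by simp [E₁]; grind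
  obtain ⟨h₁, hh₁⟩ := hlift h₀ fun x hx => by simp [E₁, hx]
  choose z₁ hz₁ using fun j u => hlift (z₀ j u) fun x hx => by simp [E₁]; grind
  choose w₁ hw₁ using fun t j => hlift (w₀ t j) fun x hx => by simp [E₁]; grind
  choose c₁ hc₁ using fun i u => hlift (c₀ i u) fun x hx => by simp [E₁]; grind
  choose d₁ hd₁ using fun t u v => hlift (d₀ t u v) fun x hx => by simp [E₁]; grind
  have hv₁ : Function.Injective v₁ := Subtype.val_injective
  have hcert₁ : Cert S₁ g₁ h₁ e z₁ w₁ c₁ d₁ := Cert.of_map v₁ hv₁ (by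
    simp only [hS₁, hg₁, hh₁, hz₁, hw₁, hc₁, hd₁]; exact hcert)
  let vec : Option (Fin r) → Unit → MvPolynomial (Fin N) B₁ := fun a _ => a.elim h₁ g₁
  obtain ⟨b₁, hb₁, κ, hκ, hker⟩ := exists_kernel_generators.{u} vec
  have hlast : ∀ x ∈ κ, ∃ q : Fin r → MvPolynomial (Fin N) Kb, ∑ u, q u * g₀ u = map v₁ (x none) := by
    intro x hx
    have h1 := congrArg (map v₁) (hκ x hx ())
    simp only [vec, map_sum, map_add, map_mul, map_zero, Fintype.sum_option, Option.elim, hh₁, hg₁] at h1
    refine Ideal.mem_span_range_iff_exists_fun.mp (hreg _ ?_)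
    rw [mul_comm, eq_neg_of_add_eq_zero_left h1]
    exact Submodule.neg_mem _ (Submodule.sum_mem _ fun t _ => Ideal.mul_mem_left _ _ (Ideal.subset_span ⟨t, rfl⟩))
  choose q hq using hlast
  let E₂ : Finset Kb := E₁ ∪ κ.attach.biUnion fun x => Finset.univ.biUnion fun u => (q x.1 x.2 u).coeffs
  obtain ⟨d, B, hEB, hLB, hB⟩ := exists_model.{u} (L := L) E₂
  have hle : ∀ x : B₁, (x : Kb) ∈ B := fun x => by
    obtain ⟨x, hx⟩ := x
    show x ∈ B
    induction hx using Algebra.adjoin_induction with
    | mem y hy => exact hEB y (Finset.mem_union_left _ hy)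
    | algebraMap n => rw [eq_intCast (algebraMap ℤ Kb) n]; exact intCast_mem B n
    | add x y _ _ hx hy => exact B.add_mem hx hy
    | mul x y _ _ hx hy => exact B.mul_mem hx hy
  let j : B₁ →+* B := v₁.codRestrict B hle
  have hj : (B.subtype).comp j = v₁ := RingHom.ext fun x => rfl
  have hjb : j b₁ ≠ 0 := fun h0 => hb₁ (hv₁ ((congrArg Subtype.val h0).trans (map_zero v₁).symm))
  obtain ⟨f, hf, hpt⟩ := hB (j b₁) hjb
  let D₀ := Finset.univ.sup fun t => (g₁ t).totalDegree
  have hsyz : ∀ d', ∃ D', ∀ (k : Type u) [Field k]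
      (v : Option (Fin r × Fin d') → Fin d' → MvPolynomial (Fin N) k), (∀ a b, (v a b).totalDegree ≤ D₀) →
        ∀ y : Option (Fin r × Fin d') → MvPolynomial (Fin N) k, (∀ b, ∑ a, y a * v a b = 0) →
          y ∈ Submodule.span (MvPolynomial (Fin N) k) {x : Option (Fin r × Fin d') → MvPolynomial (Fin N) k |
            (∀ b, ∑ a, x a * v a b = 0) ∧ ∀ a, (x a).totalDegree ≤ D'} :=
    fun d' => exists_syzygy_bound.{u} N D₀ _ _
  choose Dd hDd using hsyz
  refine ⟨f, hf, (Finset.range (d + 1)).sup Dd, fun k₀ _ ψ hψ => ?_⟩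
  obtain ⟨k', _, _, _, Ψ, hdim, hΨ, hΨb⟩ := hpt k₀ ψ hψ
  let χ : B₁ →+* k' := Ψ.comp j
  have hS' : ∀ i, map χ (S₁ i) = map (algebraMap k₀ k') (map ψ (S i)) := fun i => by
    let jL : L →+* B := (algebraMap L Kb).codRestrict B hLB
    have e1 : map j (S₁ i) = map jL (S i) := map_injective (σ := Fin N) B.subtype Subtype.val_injective (by
      rw [map_map, map_map, hj, hS₁]
      rfl)
    rw [show map χ (S₁ i) = map Ψ (map j (S₁ i)) from (map_map _ _ _).symm, e1, map_map, map_map]
    exact congrArg (fun f => map f (S i)) (RingHom.ext hΨ)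
  let g' : Fin r → MvPolynomial (Fin N) k' := fun t => map χ (g₁ t)
  have hreg' : ∀ y, map χ h₁ * y ∈ Ideal.span (Set.range g') → y ∈ Ideal.span (Set.range g') := by
    intro y hy
    obtain ⟨a, ha⟩ := Ideal.mem_span_range_iff_exists_fun.mp hy
    let Y : Option (Fin r) → MvPolynomial (Fin N) k' := fun o => o.elim y fun t => -a t
    have hY : ∀ b : Unit, ∑ o, Y o * map χ (vec o b) = 0 := fun b => by
      simp only [Y, vec, Fintype.sum_option, Option.elim, neg_mul, Finset.sum_neg_distrib]
      rw [show (∑ t, a t * map χ (g₁ t)) = ∑ t, a t * g' t from rfl, ha]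
      ring
    have hspan := hker k' χ (isUnit_iff_ne_zero.mpr hΨb) Y hY
    have : ∀ w ∈ Submodule.span (MvPolynomial (Fin N) k')
        ((fun (x : Option (Fin r) → MvPolynomial (Fin N) B₁) (o : Option (Fin r)) => map χ (x o)) ''
          (↑κ : Set (Option (Fin r) → MvPolynomial (Fin N) B₁))),
        w none ∈ Ideal.span (Set.range g') := by
      intro w hw
      induction hw using Submodule.span_induction with
      | mem w hw =>
        obtain ⟨x, hx, rfl⟩ := hw
        have hQ : ∀ u, ∃ Q : MvPolynomial (Fin N) B, map B.subtype Q = q x hx u := fun u =>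
          exists_lift _ _ fun c hc => ⟨⟨c, hEB c (Finset.mem_union_right _ (Finset.mem_biUnion.mpr
            ⟨⟨x, hx⟩, Finset.mem_attach _ _, Finset.mem_biUnion.mpr ⟨u, Finset.mem_univ u, hc⟩⟩))⟩, rfl⟩
        choose Q hQ using hQ
        have e1 : ∑ u, Q u * map j (g₁ u) = map j (x none) :=
          map_injective (σ := Fin N) B.subtype Subtype.val_injective (by
            simp only [map_sum, map_mul, map_map, hj, hQ, hg₁]
            exact hq x hx)
        have e2 := congrArg (map Ψ) e1
        simp only [map_sum, map_mul, map_map] at e2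
        show map χ (x none) ∈ _
        rw [show map χ (x none) = map (Ψ.comp j) (x none) from rfl, ← e2]
        exact Submodule.sum_mem _ fun u _ => Ideal.mul_mem_left _ _ (Ideal.subset_span ⟨u, rfl⟩)
      | zero => exact Submodule.zero_mem _
      | add w w' _ _ hw hw' => exact Submodule.add_mem _ hw hw'
      | smul c w _ hw => exact Ideal.mul_mem_left _ c hw
    exact this Y hspan
  have hrad := (hcert₁.map χ).radical_eq hreg'
  simp only [hS'] at hrad
  set d' := Module.finrank k₀ k'
  let eb : Module.Basis (Fin d') k₀ k' := Module.finBasis k₀ k'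
  have h1 : ∃ i, eb.repr 1 i ≠ 0 := by
    by_contra hc
    push Not at hc
    exact one_ne_zero (eb.repr.injective ((Finsupp.ext hc).trans (map_zero eb.repr).symm))
  have hiff : ∀ P, map (algebraMap k₀ k') P ∈ Ideal.span (Set.range g') ↔
      P ∈ (Ideal.span (Set.range fun i => map ψ (S i))).radical := by
    intro P
    rw [← hrad]
    constructor
    · rintro ⟨n, hn⟩
      rw [← map_pow] at hn
      exact ⟨n, mem_span_of_map_mem eb h1 _ _ hn⟩
    · rintro ⟨n, hn⟩
      refine ⟨n, ?_⟩
      rw [← map_pow]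
      have := Ideal.mem_map_of_mem (map (σ := Fin N) (algebraMap k₀ k')) hn
      rw [Ideal.map_span, ← Set.range_comp] at this
      exact this
  intro P hP
  obtain ⟨Y, rfl, hY⟩ := (map_mem_span_iff eb g' P).mp ((hiff P).mpr hP)
  have hdeg : ∀ (a : Option (Fin r × Fin d')) (i : Fin d'),
      (coord eb i (a.elim 1 fun tj => C (eb tj.2) * g' tj.1)).totalDegree ≤ D₀ := by
    intro a i
    refine (totalDegree_coord_le eb i _).trans ?_
    cases a with
    | none => simp
    | some tj =>
      refine (totalDegree_mul _ _).trans ?_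
      rw [totalDegree_C, zero_add]
      exact (totalDegree_map_le' _ _).trans (Finset.le_sup (f := fun t => (g₁ t).totalDegree) (Finset.mem_univ tj.1))
  have hspan := hDd d' k₀ (fun a i => coord eb i (a.elim 1 fun tj => C (eb tj.2) * g' tj.1)) hdeg Y hY
  have := Submodule.apply_mem_span_image_of_mem_span
    (LinearMap.proj none : (Option (Fin r × Fin d') → MvPolynomial (Fin N) k₀) →ₗ[MvPolynomial (Fin N) k₀] _) hspan
  refine Submodule.span_mono ?_ this
  rintro _ ⟨x, ⟨hx1, hx2⟩, rfl⟩
  exact ⟨(hiff _).mp ((map_mem_span_iff eb g' _).mpr ⟨x, rfl, hx1⟩),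
    (hx2 none).trans (Finset.le_sup (f := Dd) (Finset.mem_range.mpr (Nat.lt_succ_of_le hdim)))⟩

theorem exists_radical_bound (N : ℕ) :
    ∃ R : ℕ → ℕ, ∀ (k₀ : Type u) [Field k₀] (m : ℕ) (S : Set (MvPolynomial (Fin N) k₀)),
      (∀ p ∈ S, p.totalDegree ≤ m) →
        ∃ S' : Set (MvPolynomial (Fin N) k₀), (∀ q ∈ S', q.totalDegree ≤ R m) ∧
          Ideal.span S' = (Ideal.span S).radical := by
  classical
  have key : ∀ m, ∃ D : ℕ, ∀ (k₀ : Type u) [Field k₀] (S : Set (MvPolynomial (Fin N) k₀)),
      (∀ p ∈ S, p.totalDegree ≤ m) →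
        (Ideal.span S).radical ≤ Ideal.span {q | q ∈ (Ideal.span S).radical ∧ q.totalDegree ≤ D} := by
    intro m
    let T := Fin N → Fin (m + 1)
    let A := MvPolynomial (T × T) ℤ
    let Sg : T → MvPolynomial (Fin N) A := fun j => ∑ t : T, monomial (expOf t) (X (j, t))
    haveI : IsNoetherianRing A := MvPolynomial.isNoetherianRing
    let Good : ∀ (k : Type u) [Field k], (A →+* k) → ℕ → Prop := fun k _ φ D =>
      (Ideal.span (Set.range fun j => map φ (Sg j))).radical ≤ Ideal.span
        {q | q ∈ (Ideal.span (Set.range fun j => map φ (Sg j))).radical ∧ q.totalDegree ≤ D}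
    obtain ⟨D, hD⟩ : ∃ D, ∀ (k : Type u) [Field k] (φ : A →+* k), Good k φ D := by
      refine exists_uniform Good (fun k _ φ D D' hDD' hg => hg.trans ?_) fun p hp => ?_
      · refine Ideal.span_mono ?_
        intro q hq
        exact ⟨hq.1, hq.2.trans hDD'⟩
      haveI := hp
      haveI : IsDomain (A ⧸ p) := Ideal.Quotient.isDomain p
      haveI : IsNoetherianRing (A ⧸ p) := isNoetherianRing_of_surjective A (A ⧸ p) (Ideal.Quotient.mk p) Ideal.Quotient.mk_surjective
      obtain ⟨f, hf, D, hD⟩ := exists_stratum_bound.{u} (L := A ⧸ p) fun j => map (Ideal.Quotient.mk p) (Sg j)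
      obtain ⟨f, rfl⟩ := Ideal.Quotient.mk_surjective f
      refine ⟨f, fun h => hf (Ideal.Quotient.eq_zero_iff_mem.mpr h), D, fun k _ φ hker hφ => ?_⟩
      have := hD k (Ideal.Quotient.lift p φ hker) hφ
      simp only [map_map] at this
      exact this
    refine ⟨D, fun k₀ _ S hS => ?_⟩
    obtain ⟨B, hBS, hBspan, hBli⟩ := exists_linearIndependent k₀ S
    let W : Set (MvPolynomial (Fin N) k₀) := Set.range fun t : T => monomial (expOf t) (1 : k₀)
    have hBW : Set.range ((↑) : B → MvPolynomial (Fin N) k₀) ⊆ Submodule.span k₀ W := by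
      rintro _ ⟨⟨b, hb⟩, rfl⟩
      show b ∈ Submodule.span k₀ W
      rw [← sum_monomial_eq b (hS b (hBS hb))]
      refine Submodule.sum_mem _ fun t _ => ?_
      rw [← mul_one (b.coeff (expOf t)), ← smul_eq_mul, ← smul_monomial]
      exact Submodule.smul_mem _ _ (Submodule.subset_span ⟨t, rfl⟩)
    haveI : Fintype W := Set.fintypeRange _
    haveI : Finite B := hBli.finite_of_le_span_finite _ W hBW
    haveI := Fintype.ofFinite B
    have hcard : Fintype.card B ≤ Fintype.card T :=
      (linearIndependent_le_span_aux' _ hBli W hBW).trans (Fintype.card_range_le _)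
    obtain ⟨emb⟩ := Function.Embedding.nonempty_of_card_le hcard
    let s : T → MvPolynomial (Fin N) k₀ := Function.extend emb (fun b : B => (b : MvPolynomial (Fin N) k₀)) fun _ => 0
    have hs : ∀ t, (s t).totalDegree ≤ m := fun t => by
      simp only [s, Function.extend_def]
      split
      · exact hS _ (hBS (Subtype.coe_prop _))
      · simp
    have hspan : Ideal.span (Set.range s) = Ideal.span S := by
      apply le_antisymm
      · rw [Ideal.span_le]
        rintro _ ⟨t, rfl⟩
        simp only [s, Function.extend_def]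
        split
        · exact Ideal.subset_span (hBS (Subtype.coe_prop _))
        · exact Submodule.zero_mem _
      · rw [Ideal.span_le]
        intro x hx
        have : x ∈ Submodule.span k₀ B := hBspan ▸ Submodule.subset_span hx
        refine (Submodule.span_le (p := (Ideal.span (Set.range s)).restrictScalars k₀)).mpr ?_ this
        intro b hb
        exact Ideal.subset_span ⟨emb ⟨b, hb⟩, emb.injective.extend_apply _ _ _⟩
    let φ : A →+* k₀ := (aeval fun i : T × T => (s i.1).coeff (expOf i.2) : A →ₐ[ℤ] k₀).toRingHom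
    have hSg : ∀ j, map φ (Sg j) = s j := fun j => by
      conv_rhs => rw [← sum_monomial_eq (s j) (hs j)]
      simp only [Sg, map_sum, map_monomial]
      exact Finset.sum_congr rfl fun t _ => congrArg _ (aeval_X _ _)
    have := hD k₀ φ
    simp only [Good, hSg] at this
    rwa [show Ideal.span (Set.range fun j => s j) = Ideal.span S from hspan] at this
  choose R hR using key
  refine ⟨R, fun k₀ _ m S hS => ⟨_, fun q hq => hq.2, le_antisymm ?_ (hR m k₀ S hS)⟩⟩
  rw [Ideal.span_le]
  exact fun q hq => hq.1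

end L02.CAlg.RadBound
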