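import Groth.Agent.L02.CAlg.RadBound.Uniform
import Groth.Agent.L02.CAlg.RadBound.Kernel
import Mathlib.RingTheory.MvPolynomial.Basic

/-!
Relations between polynomial vectors of bounded degree are generated in bounded degree.
-/

set_option autoImplicit false
universe u v

open MvPolynomial

namespace L02.CAlg.RadBound

/-- An exponent with bounded coordinates. -/
noncomputable def expOf {N D : ℕ} (t : Fin N → Fin (D + 1)) : Fin N →₀ ℕ :=
  Finsupp.equivFunOnFinite.symm fun i => (t i : ℕ)

theorem expOf_injective {N D : ℕ} : Function.Injective (expOf : (Fin N → Fin (D + 1)) → Fin N →₀ ℕ) :=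
  fun _ _ h => funext fun i => Fin.ext (DFunLike.congr_fun h i)

theorem totalDegree_map_le' {R : Type v} {S : Type u} [CommSemiring R] [CommSemiring S] {σ : Type} (g : R →+* S)
    (p : MvPolynomial σ R) : (MvPolynomial.map g p).totalDegree ≤ p.totalDegree :=
  Finset.sup_mono (MvPolynomial.support_map_subset g p)

theorem sum_monomial_eq {R : Type u} [CommSemiring R] {N D : ℕ} (p : MvPolynomial (Fin N) R)
    (hp : p.totalDegree ≤ D) :
    ∑ t : Fin N → Fin (D + 1), monomial (expOf t) (p.coeff (expOf t)) = p := by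
  classical
  have h : p.support ⊆ Finset.univ.image (expOf : (Fin N → Fin (D + 1)) → Fin N →₀ ℕ) := by
    intro s hs
    have hle : ∀ i, s i < D + 1 := fun i =>
      Nat.lt_succ_of_le (((monomial_le_degreeOf i hs).trans (degreeOf_le_totalDegree p i)).trans hp)
    exact Finset.mem_image.mpr ⟨fun i => ⟨s i, hle i⟩, Finset.mem_univ _, by ext i; rfl⟩
  conv_rhs => rw [p.as_sum, Finset.sum_subset h fun s _ hs => by rw [notMem_support_iff.mp hs, map_zero],
    Finset.sum_image fun x _ y _ hxy => expOf_injective hxy]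

theorem exists_syzygy_bound (N D : ℕ) (α β : Type) [Fintype α] [Fintype β] :
    ∃ D' : ℕ, ∀ (k : Type u) [Field k] (v : α → β → MvPolynomial (Fin N) k),
      (∀ a b, (v a b).totalDegree ≤ D) → ∀ y : α → MvPolynomial (Fin N) k, (∀ b, ∑ a, y a * v a b = 0) →
        y ∈ Submodule.span (MvPolynomial (Fin N) k) {x : α → MvPolynomial (Fin N) k |
          (∀ b, ∑ a, x a * v a b = 0) ∧ ∀ a, (x a).totalDegree ≤ D'} := by
  classical
  let A := MvPolynomial (α × β × (Fin N → Fin (D + 1))) ℤ
  let w : α → β → MvPolynomial (Fin N) A := fun a b =>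
    ∑ t : Fin N → Fin (D + 1), monomial (expOf t) (X (a, b, t))
  let Good : ∀ (k : Type u) [Field k], (A →+* k) → ℕ → Prop := fun k _ φ D' =>
    ∀ y : α → MvPolynomial (Fin N) k, (∀ b, ∑ a, y a * map φ (w a b) = 0) →
      y ∈ Submodule.span (MvPolynomial (Fin N) k) {x : α → MvPolynomial (Fin N) k |
        (∀ b, ∑ a, x a * map φ (w a b) = 0) ∧ ∀ a, (x a).totalDegree ≤ D'}
  haveI : IsNoetherianRing A := MvPolynomial.isNoetherianRing
  have hgood : ∃ D', ∀ (k : Type u) [Field k] (φ : A →+* k), Good k φ D' := by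
    refine exists_uniform Good (fun k _ φ D₁ D₂ hD hg y hy => ?_) fun p hp => ?_
    · refine Submodule.span_mono ?_ (hg y hy)
      intro x hx
      exact ⟨hx.1, fun a => (hx.2 a).trans hD⟩
    haveI := hp
    haveI : IsDomain (A ⧸ p) := Ideal.Quotient.isDomain p
    haveI : IsNoetherianRing (A ⧸ p) := isNoetherianRing_of_surjective A (A ⧸ p) (Ideal.Quotient.mk p) Ideal.Quotient.mk_surjective
    obtain ⟨f, hf, κ, hκ, hk⟩ := exists_kernel_generators.{u} (L := A ⧸ p)
      (fun a b => map (Ideal.Quotient.mk p) (w a b))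
    obtain ⟨f, rfl⟩ := Ideal.Quotient.mk_surjective f
    refine ⟨f, fun h => hf (Ideal.Quotient.eq_zero_iff_mem.mpr h),
      κ.sup fun x => Finset.univ.sup fun a => (x a).totalDegree, fun k _ φ hker hφ y hy => ?_⟩
    let ψ : A ⧸ p →+* k := Ideal.Quotient.lift p φ hker
    have hψ : ∀ a b, map ψ (map (Ideal.Quotient.mk p) (w a b)) = map φ (w a b) := fun a b => by
      rw [map_map]
      rfl
    refine Submodule.span_mono ?_ (hk k ψ (isUnit_iff_ne_zero.mpr hφ) y fun b => by simp only [hψ, hy])
    rintro _ ⟨x, hx, rfl⟩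
    refine ⟨fun b => ?_, fun a => (totalDegree_map_le' _ _).trans
      ((Finset.le_sup (f := fun a => (x a).totalDegree) (Finset.mem_univ a)).trans
        (Finset.le_sup (f := fun x : α → MvPolynomial (Fin N) (A ⧸ p) =>
          Finset.univ.sup fun a => (x a).totalDegree) hx))⟩
    simp only [← hψ, ← map_mul, ← map_sum, hκ x hx b, map_zero]
  obtain ⟨D', hD'⟩ := hgood
  refine ⟨D', fun k _ v hv => ?_⟩
  let φ : A →+* k := (aeval fun i : α × β × (Fin N → Fin (D + 1)) =>
    (v i.1 i.2.1).coeff (expOf i.2.2) : A →ₐ[ℤ] k).toRingHom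
  have hw : ∀ a b, map φ (w a b) = v a b := fun a b => by
    conv_rhs => rw [← sum_monomial_eq (v a b) (hv a b)]
    simp only [w, map_sum, map_monomial]
    exact Finset.sum_congr rfl fun t _ => congrArg _ (aeval_X _ _)
  have := hD' k φ
  simp only [Good, hw] at this
  exact this

end L02.CAlg.RadBound
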