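import Mathlib.RingTheory.Noetherian.Defs
import Mathlib.RingTheory.Ideal.Operations
import Mathlib.RingTheory.Ideal.Maps
import Mathlib.Algebra.Field.Basic

/-!
Uniform bounds over all fields from bounds on strata of a parameter ring.
-/

set_option autoImplicit false
universe u v

namespace L02.CAlg.RadBound

/-- A bound which holds generically on every stratum of a Noetherian parameter ring holds uniformly. -/
theorem exists_uniform {A : Type v} [CommRing A] [IsNoetherianRing A]
    (Good : ∀ (k : Type u) [Field k], (A →+* k) → ℕ → Prop)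
    (hmono : ∀ (k : Type u) [Field k] (φ : A →+* k) (D D' : ℕ), D ≤ D' → Good k φ D → Good k φ D')
    (h : ∀ p : Ideal A, p.IsPrime → ∃ f : A, f ∉ p ∧ ∃ D, ∀ (k : Type u) [Field k] (φ : A →+* k),
      p ≤ RingHom.ker φ → φ f ≠ 0 → Good k φ D) :
    ∃ D, ∀ (k : Type u) [Field k] (φ : A →+* k), Good k φ D := by
  suffices H : ∀ I : Ideal A, ∃ D, ∀ (k : Type u) [Field k] (φ : A →+* k), I ≤ RingHom.ker φ → Good k φ D by
    obtain ⟨D, hD⟩ := H ⊥
    exact ⟨D, fun k _ φ => hD k φ bot_le⟩
  intro I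
  induction I using WellFoundedGT.induction with
  | _ I ih =>
    have hlt : ∀ a : A, a ∉ I → I < I ⊔ Ideal.span {a} := fun a ha => lt_of_le_of_ne le_sup_left fun e =>
      ha (e ▸ (le_sup_right : Ideal.span {a} ≤ I ⊔ Ideal.span {a}) (Ideal.mem_span_singleton_self a))
    have hle : ∀ (k : Type u) [Field k] (φ : A →+* k) (a : A), I ≤ RingHom.ker φ → φ a = 0 →
        I ⊔ Ideal.span {a} ≤ RingHom.ker φ := fun k _ φ a h1 h2 =>
      sup_le h1 ((Ideal.span_singleton_le_iff_mem (RingHom.ker φ)).mpr h2)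
    by_cases hI : I.IsPrime
    · obtain ⟨f, hf, D, hD⟩ := h I hI
      obtain ⟨D', hD'⟩ := ih _ (hlt f hf)
      refine ⟨max D D', fun k _ φ hk => ?_⟩
      by_cases hfk : φ f = 0
      · exact hmono k φ D' _ (le_max_right _ _) (hD' k φ (hle k φ f hk hfk))
      · exact hmono k φ D _ (le_max_left _ _) (hD k φ hk hfk)
    · by_cases htop : I = ⊤
      · subst htop
        exact ⟨0, fun k _ φ hk => absurd (hk (Submodule.mem_top (x := (1 : A)))) (by simp)⟩
      obtain ⟨a, ha, b, hb, hab⟩ := (Ideal.not_isPrime_iff.mp hI).resolve_left htop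
      obtain ⟨D₁, hD₁⟩ := ih _ (hlt a ha)
      obtain ⟨D₂, hD₂⟩ := ih _ (hlt b hb)
      refine ⟨max D₁ D₂, fun k _ φ hk => ?_⟩
      have h0 : φ (a * b) = 0 := hk hab
      rw [map_mul, mul_eq_zero] at h0
      rcases h0 with h0 | h0
      · exact hmono k φ D₁ _ (le_max_left _ _) (hD₁ k φ (hle k φ a hk h0))
      · exact hmono k φ D₂ _ (le_max_right _ _) (hD₂ k φ (hle k φ b hk h0))

end L02.CAlg.RadBound
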